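import Groth.Agent.S0385
import Groth.Agent.Lib.LocNoeth.Scheme
import Groth.Agent.Lib.FibreLocus.Hom
import Mathlib.AlgebraicGeometry.Morphisms.Immersion
import Mathlib.RingTheory.Ideal.MinimalPrime.Basic

/-!
A quasi-finite separated morphism over a Noetherian base of dimension at most one whose fibres over the
base are finite is affine.
-/

universe u

open CategoryTheory CategoryTheory.Limits AlgebraicGeometry TopologicalSpace Topology

namespace GrothLib.AffineDimOne14

/-- In a scheme of dimension at most one there is no chain of three distinct points. -/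
theorem eq_or_eq_of_specializes {S : Scheme.{u}} (hdim : topologicalKrullDim ↥S ≤ 1) {a b c : S}
    (hab : a ⤳ b) (hbc : b ⤳ c) : a = b ∨ b = c := by
  by_contra! h
  obtain ⟨hne1, hne2⟩ := h
  let I : S → TopologicalSpace.IrreducibleCloseds S := fun x =>
    ⟨closure {x}, isIrreducible_singleton.closure, isClosed_closure⟩
  have lt : ∀ {x y : S}, x ⤳ y → x ≠ y → I y < I x := fun {x y} hxy hne => by
    refine lt_of_le_of_ne hxy.closure_subset fun h => hne (hxy.antisymm ?_).eq
    exact specializes_iff_closure_subset.mpr (le_of_eq (congrArg SetLike.coe h.symm))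
  let l : LTSeries (TopologicalSpace.IrreducibleCloseds S) :=
    ((RelSeries.singleton _ (I c)).snoc (I b) (lt hbc hne2)).snoc (I a) (by simpa using lt hab hne1)
  have h2 : (2 : WithBot ℕ∞) ≤ topologicalKrullDim ↥S := le_trans (le_of_eq rfl) (Order.LTSeries.length_le_krullDim l)
  exact absurd (h2.trans hdim) (by decide)

variable {S : Scheme.{u}}

/-- The open immersion of a scheme into a finite model of it, when the fibres over the base are finite. -/
theorem isAffineHom_of_isAffine [IsLocallyNoetherian S] (hdim : topologicalKrullDim ↥S ≤ 1)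
    {X Y : Scheme.{u}} (g : Y ⟶ S) [LocallyOfFiniteType g] [IsAffine Y] (u : X ⟶ Y)
    [QuasiCompact u] [LocallyQuasiFinite u] [IsSeparated u] [LocallyOfFiniteType u]
    (hfin : ∀ (s : S) {T : Scheme.{u}} (a : T ⟶ Y) (b : T ⟶ Spec (S.residueField s)),
      a ≫ g = b ≫ S.fromSpecResidueField s → IsFinite (pullback.snd u a)) :
    IsAffineHom u := by
  obtain ⟨T₀, j₀, π₀, hj₀, hj₀c, hπ₀, hu₀⟩ := Groth.Agent.S0385.result u
  haveI := hj₀; haveI := hj₀c; haveI := hπ₀
  let j := j₀.toImage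
  let h := j₀.imageι ≫ π₀
  have hu : j ≫ h = u := by rw [Scheme.Hom.toImage_imageι_assoc, hu₀]
  haveI : IsFinite h := inferInstance
  suffices IsAffineHom j by rw [← hu]; infer_instance
  let f := h ≫ g
  haveI : LocallyOfFiniteType f := inferInstance
  haveI : IsLocallyNoetherian j₀.image := LocallyOfFiniteType.isLocallyNoetherian f
  classical
  refine isAffineHom_of_forall_exists_isAffineOpen j fun z => ?_
  by_cases hz : z ∈ j.opensRange
  · obtain ⟨W, hW, hzW, hWr⟩ := exists_isAffineOpen_mem_and_subset hz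
    exact ⟨W, hzW, hW, hW.preimage_of_isOpenImmersion j hWr⟩
  -- the points over a given point form a closed subset of the range in the fibre
  have hclosed : ∀ (s : S) (w : j₀.image), f w = s → w ∈ closure (Set.range j ∩ f ⁻¹' {s}) → w ∈ Set.range j := by
    intro s w hws hw
    let a := pullback.fst g (S.fromSpecResidueField s)
    haveI : IsPreimmersion a := MorphismProperty.pullback_fst _ _ inferInstance
    let p₁ := pullback.fst h a
    haveI : IsPreimmersion p₁ := MorphismProperty.pullback_fst _ _ inferInstance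
    let p₂ := pullback.snd h a
    let i := pullback.snd j p₁
    have hsq : IsPullback (pullback.fst j p₁) (i ≫ p₂) (j ≫ h) a :=
      (IsPullback.of_hasPullback j p₁).paste_vert (IsPullback.of_hasPullback h a)
    haveI : IsFinite (i ≫ p₂) := by
      haveI := hfin s a (pullback.snd g (S.fromSpecResidueField s)) pullback.condition
      have hsq' : IsPullback (pullback.fst j p₁) (i ≫ p₂) u a := hu ▸ hsq
      rw [← hsq'.isoPullback_hom_snd]
      infer_instance
    haveI : IsFinite i := IsFinite.of_comp i p₂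
    have hC : IsClosed (p₁ ⁻¹' Set.range j) := by
      rw [← Scheme.Pullback.range_snd]
      exact i.isClosedMap.isClosed_range
    obtain ⟨K, hK, hKC⟩ := p₁.isEmbedding.isInducing.isClosed_iff.mp hC
    have hr : Set.range p₁ = f ⁻¹' {s} := by
      rw [Scheme.Pullback.range_fst, show Set.range a = g ⁻¹' {s} by
        rw [Scheme.Pullback.range_fst, Scheme.range_fromSpecResidueField], ← Set.preimage_comp]
      rfl
    have hmem : ∀ v, f v = s → (v ∈ K ↔ v ∈ Set.range j) := fun v hv => by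
      obtain ⟨v', rfl⟩ := hr.ge hv
      exact Set.ext_iff.mp hKC v'
    exact (hmem w hws).mp (hK.closure_subset_iff.mpr (fun v hv => (hmem v hv.2).mpr hv.1) hw)
  -- points outside the range lie over points that are not maximal
  have hnmin : ∀ w ∉ Set.range j, ∃ t : S, t ⤳ f w ∧ t ≠ f w := by
    intro w hw
    obtain ⟨x, hx⟩ := GrothLib.LocNoeth.exists_specializes_of_mem_closure_range j
      (show w ∈ closure (Set.range j) by rw [j.denseRange.closure_range]; trivial)
    refine ⟨f (j x), hx.map f.continuous, fun he => hw ?_⟩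
    have hxs : ({j x} : Set j₀.image) ⊆ Set.range j ∩ f ⁻¹' {f w} := Set.singleton_subset_iff.mpr ⟨Set.mem_range_self x, he⟩
    exact hclosed (f w) w rfl (closure_mono hxs
      (specializes_iff_mem_closure.mp hx))
  have hmax : ∀ {t t' : S}, (∃ t₀, t₀ ⤳ t ∧ t₀ ≠ t) → t ⤳ t' → t' = t := fun {t t'} ⟨t₀, h1, h2⟩ h3 =>
    (eq_or_eq_of_specializes hdim h1 h3).elim (absurd · h2) Eq.symm
  set s := f z with hsdef
  obtain ⟨V, hV, hsV, -⟩ := exists_isAffineOpen_mem_and_subset (Opens.mem_top s)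
  haveI : IsNoetherianRing Γ(S, V) := IsLocallyNoetherian.component_noetherian ⟨V, hV⟩
  obtain ⟨W₀, hW₀, hzW₀, hW₀V⟩ := exists_isAffineOpen_mem_and_subset (U := f ⁻¹ᵁ V) hsV
  -- the exceptional points
  haveI : NoetherianSpace (W₀ : Scheme.{u}) := by
    haveI : IsAffine (W₀ : Scheme.{u}) := hW₀
    haveI : IsLocallyNoetherian (W₀ : Scheme.{u}) := isLocallyNoetherian_of_isOpenImmersion W₀.ι
    haveI : IsNoetherian (W₀ : Scheme.{u}) := ⟨⟩
    infer_instance
  have hF : (f '' ((W₀ : Set j₀.image) \ Set.range j)).Finite := by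
    obtain ⟨D, hDf, hDc, hDi, hD⟩ := NoetherianSpace.exists_finite_set_isClosed_irreducible
      (j.isOpenEmbedding.isOpen_range.isClosed_compl.preimage W₀.ι.continuous :
        IsClosed (W₀.ι ⁻¹' (Set.range j)ᶜ))
    refine (hDf.biUnion (t := fun d => (f ∘ W₀.ι) '' d) fun d hd => ?_).subset ?_
    · obtain ⟨ξ, hξ⟩ := QuasiSober.sober (hDi d hd) (hDc d hd)
      have hξ' : W₀.ι ξ ∉ Set.range j := (hD.ge ⟨d, hd, hξ.mem⟩ :)
      refine (Set.finite_singleton ((f ∘ W₀.ι) ξ)).subset ?_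
      rintro _ ⟨w, hw, rfl⟩
      exact hmax (hnmin _ hξ') (((hξ.specializes hw).map W₀.ι.continuous).map f.continuous)
    · rintro _ ⟨w, ⟨hw, hwj⟩, rfl⟩
      have h1 : (⟨w, hw⟩ : W₀.toScheme) ∈ W₀.ι ⁻¹' (Set.range j)ᶜ := hwj
      rw [hD] at h1
      obtain ⟨d, hd, hwd⟩ := h1
      exact Set.mem_biUnion hd ⟨⟨w, hw⟩, hwd, rfl⟩
  obtain ⟨t₀, ht₀, ht₀s⟩ := hnmin z (by simpa using hz)
  -- a parameter at `s`
  let p := hV.primeIdealOf ⟨s, hsV⟩
  have hfp : hV.fromSpec p = s := hV.fromSpec_primeIdealOf _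
  have hinj : Function.Injective hV.fromSpec := hV.fromSpec.isOpenEmbedding.injective
  have hp : ∀ q ∈ minimalPrimes Γ(S, V), ¬ p.asIdeal ≤ q := by
    intro q hq hpq
    have ht₀V : t₀ ∈ V := ht₀.mem_open V.2 hsV
    obtain ⟨p₀, hp₀⟩ := hV.range_fromSpec.ge ht₀V
    have h1 : p₀.asIdeal ≤ p.asIdeal := (PrimeSpectrum.le_iff_specializes p₀ p).mpr
      (hV.fromSpec.isEmbedding.isInducing.specializes_iff.mp (by rw [hp₀, hfp]; exact ht₀))
    have h2 : p.asIdeal = q := le_antisymm hpq (hq.2 ⟨p.2, bot_le⟩ hpq)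
    have h3 : p.asIdeal ≤ p₀.asIdeal := h2 ▸ hq.2 ⟨p₀.2, bot_le⟩ (h1.trans hpq)
    exact ht₀s (hp₀.symm.trans ((congrArg hV.fromSpec (PrimeSpectrum.ext (le_antisymm h1 h3))).trans hfp))
  have hnsub : ¬ (p.asIdeal : Set Γ(S, V)) ⊆ ⋃ q ∈ (minimalPrimes.finite_of_isNoetherianRing Γ(S, V)).toFinset, (q : Set Γ(S, V)) := by
    intro hsub
    obtain ⟨q, hq, hpq⟩ := (Ideal.subset_union_prime (f := fun q => q) ⊥ ⊥ (fun q hq _ _ =>
      ((minimalPrimes.finite_of_isNoetherianRing Γ(S, V)).mem_toFinset.mp hq).1.1)).mp hsub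
    exact hp q ((minimalPrimes.finite_of_isNoetherianRing Γ(S, V)).mem_toFinset.mp hq) hpq
  obtain ⟨π, hπp, hπ⟩ := Set.not_subset.mp hnsub
  simp only [Set.mem_iUnion, Set.Finite.mem_toFinset, not_exists] at hπ
  -- the zero locus of the parameter
  have hzero : ∀ {t : S}, t ∈ V → t ∉ S.basicOpen π →
      ∃ q : PrimeSpectrum Γ(S, V), hV.fromSpec q = t ∧ π ∈ q.asIdeal := by
    intro t ht htπ
    obtain ⟨q, rfl⟩ := hV.range_fromSpec.ge ht
    refine ⟨q, rfl, ?_⟩
    by_contra hq
    apply htπ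
    have h1 : q ∈ hV.fromSpec ⁻¹ᵁ S.basicOpen π := by
      rw [hV.fromSpec_preimage_basicOpen]
      exact hq
    exact h1
  have hnonmin : ∀ q : PrimeSpectrum Γ(S, V), π ∈ q.asIdeal → ∃ t, t ⤳ hV.fromSpec q ∧ t ≠ hV.fromSpec q := by
    intro q hq
    obtain ⟨m, hm, hmq⟩ := Ideal.exists_minimalPrimes_le (I := (⊥ : Ideal Γ(S, V))) (J := q.asIdeal) bot_le
    refine ⟨hV.fromSpec (⟨m, hm.1.1⟩ : PrimeSpectrum Γ(S, V)),
      ((PrimeSpectrum.le_iff_specializes ⟨m, hm.1.1⟩ q).mp hmq).map hV.fromSpec.continuous, fun he => hπ m hm ?_⟩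
    rw [show m = q.asIdeal from congrArg PrimeSpectrum.asIdeal (hinj he)]
    exact hq
  have hVfin : {t : S | t ∈ V ∧ t ∉ S.basicOpen π}.Finite := by
    refine ((((Ideal.span {π}).finite_minimalPrimes_of_isNoetherianRing Γ(S, V))).image
      (fun q : Ideal Γ(S, V) => if h : q.IsPrime then hV.fromSpec (⟨q, h⟩ : PrimeSpectrum Γ(S, V)) else s)).subset ?_
    rintro t ⟨ht, htπ⟩
    obtain ⟨q, rfl, hq⟩ := hzero ht htπ
    obtain ⟨m, hm, hmq⟩ := Ideal.exists_minimalPrimes_le (J := q.asIdeal) ((Ideal.span_singleton_le_iff_mem _).mpr hq)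
    refine ⟨m, hm, ?_⟩
    refine (dif_pos hm.1.1).trans ?_
    have hπm : π ∈ m := hm.1.2 (Ideal.mem_span_singleton_self π)
    exact (hmax (hnonmin ⟨m, hm.1.1⟩ hπm)
      (((PrimeSpectrum.le_iff_specializes ⟨m, hm.1.1⟩ q).mp hmq).map hV.fromSpec.continuous)).symm
  set E := ({t : S | t ∈ V ∧ t ∉ S.basicOpen π} ∪ f '' ((W₀ : Set j₀.image) \ Set.range j)) \ {s}
  have hEc : ∀ t ∈ E, ∀ t', t ⤳ t' → t' = t := by
    rintro t ⟨(⟨ht, htπ⟩ | ⟨w, ⟨-, hwj⟩, rfl⟩), -⟩ t' htt'
    · obtain ⟨q, rfl, hq⟩ := hzero ht htπ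
      exact hmax (hnonmin q hq) htt'
    · exact hmax (hnmin w hwj) htt'
  have hEclosed : IsClosed E := by
    rw [← Set.biUnion_of_singleton E]
    refine ((hVfin.union hF).subset Set.sdiff_subset).isClosed_biUnion fun t ht => ?_
    exact closure_subset_iff_isClosed.mp fun t' ht' => hEc t ht t' (specializes_iff_mem_closure.mpr ht')
  let O : j₀.image.Opens := W₀ ⊓ f ⁻¹ᵁ ⟨Eᶜ, hEclosed.isOpen_compl⟩ ⊓
    ⟨(closure (Set.range j ∩ f ⁻¹' {s}))ᶜ, isClosed_closure.isOpen_compl⟩
  have hzO : z ∈ O := ⟨⟨hzW₀, fun h => h.2 rfl⟩, fun h => hz (by simpa using hclosed s z rfl h)⟩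
  obtain ⟨W, hW, hzW, hWO⟩ := exists_isAffineOpen_mem_and_subset hzO
  refine ⟨W, hzW, hW, ?_⟩
  have hWV : W ≤ f ⁻¹ᵁ V := fun w hw => hW₀V (hWO hw).1.1
  let B := j₀.image.basicOpen (f.appLE V W hWV π)
  have hB : B = W ⊓ f ⁻¹ᵁ S.basicOpen π := Scheme.basicOpen_appLE _ _ _ hWV π
  have hpre : j ⁻¹ᵁ W = j ⁻¹ᵁ B := by
    refine le_antisymm (fun x hx => ?_) (j.preimage_mono (hB.trans_le inf_le_left))
    show j x ∈ B
    rw [hB]
    refine ⟨hx, ?_⟩
    by_contra hπx
    have h1 : f (j x) = s := by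
      by_contra hne
      exact (hWO hx).1.2 ⟨Or.inl ⟨hWV hx, hπx⟩, hne⟩
    exact (hWO hx).2 (subset_closure ⟨Set.mem_range_self x, h1⟩)
  rw [hpre]
  refine (hW.basicOpen _).preimage_of_isOpenImmersion j fun w hw => ?_
  replace hw : w ∈ W ⊓ f ⁻¹ᵁ S.basicOpen π := hB.le hw
  by_contra hwj
  refine (hWO hw.1).1.2 ⟨Or.inr ⟨w, ⟨(hWO hw.1).1.1, by simpa using hwj⟩, rfl⟩, fun hws => ?_⟩
  have h2 : p ∈ hV.fromSpec ⁻¹ᵁ S.basicOpen π := by
    show hV.fromSpec p ∈ S.basicOpen π
    rw [hfp, ← hws]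
    exact hw.2
  rw [hV.fromSpec_preimage_basicOpen] at h2
  exact h2 hπp

/-- A quasi-finite separated morphism with finite fibres over a base of dimension at most one is affine. -/
theorem isAffineHom [IsLocallyNoetherian S] (hdim : topologicalKrullDim ↥S ≤ 1) {X Y : Over S}
    [LocallyOfFiniteType X.hom] [LocallyOfFiniteType Y.hom] (u : X ⟶ Y)
    [QuasiCompact u.left] [LocallyQuasiFinite u.left] [IsSeparated u.left]
    (hfin : ∀ s : S, IsFinite ((Over.pullback (S.fromSpecResidueField s)).map u).left) :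
    IsAffineHom u.left := by
  haveI : LocallyOfFiniteType u.left := by
    haveI : LocallyOfFiniteType (u.left ≫ Y.hom) := by rw [Over.w u]; infer_instance
    exact locallyOfFiniteType_of_comp u.left Y.hom
  refine IsZariskiLocalAtTarget.of_iSup_eq_top (fun V : Y.left.affineOpens => V.1)
    (iSup_affineOpens_eq_top Y.left) fun V => ?_
  haveI : IsAffine (V.1 : Scheme.{u}) := V.2
  refine isAffineHom_of_isAffine hdim (V.1.ι ≫ Y.hom) (u.left ∣_ V.1) fun s {T} a b hab => ?_
  let a' := a ≫ V.1.ι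
  have ha' : a' ≫ Y.hom = b ≫ S.fromSpecResidueField s := (Category.assoc _ _ _).trans hab
  let l : T ⟶ (Red.bc (S.fromSpecResidueField s) Y).left := pullback.lift a' b ha'
  haveI := hfin s
  have sq : IsPullback (pullback.fst ((Over.pullback (S.fromSpecResidueField s)).map u).left l ≫
      pullback.fst X.hom (S.fromSpecResidueField s))
      (pullback.snd ((Over.pullback (S.fromSpecResidueField s)).map u).left l) u.left a' := by
    have h := (IsPullback.of_hasPullback ((Over.pullback (S.fromSpecResidueField s)).map u).left l).paste_horiz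
      (GrothLib.FibreLocus.isPullback_map_left u (S.fromSpecResidueField s)).flip
    rwa [pullback.lift_fst] at h
  have sq' : IsPullback (pullback.fst (u.left ∣_ V.1) a ≫ (u.left ⁻¹ᵁ V.1).ι) (pullback.snd (u.left ∣_ V.1) a)
      u.left a' := (IsPullback.of_hasPullback (u.left ∣_ V.1) a).paste_horiz (isPullback_morphismRestrict u.left V.1).flip
  rw [← (sq'.isoIsPullback_hom_snd _ _ sq)]
  infer_instance

end GrothLib.AffineDimOne14
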